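import Mathlib
import Groth.Prelude
import Groth.Agent.AlgSpLib.RelDim2
import Groth.Agent.AlgSpLib.TrdegInv
import Groth.Agent.FibDimLib.Smooth
import Groth.Agent.FibDimLib.Comps
import Groth.Agent.GrpHomLib.Field

/-!
# Dimensions of smooth models and quasi-finite homomorphisms
-/

set_option autoImplicit false
set_option backward.isDefEq.respectTransparency false

universe u

open CategoryTheory CategoryTheory.Limits AlgebraicGeometry MonoidalCategory CartesianMonoidalCategory
open scoped MonObj

namespace NeronQFLib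

/-- The base change of a morphism over a base is a base change. -/
theorem isPullback_map {S T : Scheme.{u}} (ξ : T ⟶ S) {X Y : Over S} (f : X ⟶ Y) :
    IsPullback (pullback.fst X.hom ξ) ((Over.pullback ξ).map f).left f.left (pullback.fst Y.hom ξ) := by
  refine IsPullback.of_bot ?_ (pullback.lift_fst _ _ _).symm (IsPullback.of_hasPullback Y.hom ξ)
  rw [Over.w f, show ((Over.pullback ξ).map f).left ≫ pullback.snd Y.hom ξ = pullback.snd X.hom ξ from
    pullback.lift_snd _ _ _]
  exact IsPullback.of_hasPullback X.hom ξ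

/-- A locally quasi-finite morphism over a field preserves the dimensions of closures of points. -/
theorem dim_closure_eq_of_lqf {k : Type u} [Field k] {X Y : Over (Spec (CommRingCat.of k))}
    [LocallyOfFiniteType X.hom] [LocallyOfFiniteType Y.hom] (f : X ⟶ Y) [LocallyQuasiFinite f.left] (x : X.left) :
    topologicalKrullDim (closure ({x} : Set X.left)) =
      topologicalKrullDim (closure ({f.left.base x} : Set Y.left)) := by
  obtain ⟨s, hs, -⟩ := WeilLib.pdim_eq_trdeg X x
  obtain ⟨t, ht, -⟩ := WeilLib.pdim_eq_trdeg Y (f.left.base x)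
  have hdeg : f.left.residueDegree x ≠ 0 := by
    letI := (f.left.residueFieldMap x).hom.toAlgebra
    haveI : Module.Finite (Y.left.residueField (f.left x)) (X.left.residueField x) :=
      RingHom.finite_algebraMap.mp (WeightLib.finite_residueFieldMap f.left x)
    exact (Module.finrank_pos (R := Y.left.residueField (f.left x)) (M := X.left.residueField x)).ne'
  have h := WeilLib.pdim_eq_of_residueDegree_ne_zero f x hdeg
  change WeilCoh.natDim _ = WeilCoh.natDim _ at h
  have e1 : topologicalKrullDim (closure ({x} : Set X.left)) = s := hs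
  have e2 : topologicalKrullDim (closure ({f.left.base x} : Set Y.left)) = t := ht
  have : s = t := by
    simpa [WeilCoh.natDim, e1, e2] using (show WeilCoh.natDim (closure ({x} : Set X.left)) =
      WeilCoh.natDim (closure ({f.left.base x} : Set Y.left)) from h)
  rw [e1, e2, this]

/-- A point whose closure has the local dimension is the generic point of a component. -/
theorem isMax_of_dim {k : Type u} [Field k] {Y : Scheme.{u}} (q : Y ⟶ Spec (CommRingCat.of k))
    [LocallyOfFiniteType q] {g : ℕ} (y : Y) (hl : FlatMor.localDim Y y = g)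
    (hc : topologicalKrullDim (closure ({y} : Set Y)) = g) :
    closure ({y} : Set Y) ∈ irreducibleComponents Y := by
  have h0 := FibDimLib.localDim_eq_closure_add_stalk q y
  rw [hl, hc] at h0
  have h1 : ringKrullDim (Y.presheaf.stalk y) = 0 :=
    (FibDimLib.add_cancel_nat (n := g) (show (g : WithBot ℕ∞) + 0 = g + _ by rw [add_zero]; exact h0)).symm
  refine FibDimLib.closure_mem_irreducibleComponents_of_max fun z hz => ?_
  have h2 : IsMax y := by
    rw [← Order.coheight_eq_zero]
    rw [ringKrullDim_stalk_eq_coheight] at h1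
    exact WithBot.coe_eq_zero.mp h1
  exact (hz.antisymm (h2 hz)).eq

theorem exists_preimage {P X Y S : Scheme.{u}} {fst : P ⟶ X} {snd : P ⟶ Y} {f : X ⟶ S} {g : Y ⟶ S}
    (h : IsPullback fst snd f g) (x : X) (y : Y) (e : f.base x = g.base y) :
    ∃ z : P, fst.base z = x ∧ snd.base z = y := by
  obtain ⟨z, hz1, hz2⟩ := Scheme.Pullback.exists_preimage_pullback (f := f) (g := g) x y e
  refine ⟨h.isoPullback.inv.base z, ?_, ?_⟩
  · rw [← Scheme.Hom.comp_apply, h.isoPullback_inv_fst]; exact hz1
  · rw [← Scheme.Hom.comp_apply, h.isoPullback_inv_snd]; exact hz2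

/-- A homomorphism with finite kernel over a field is quasi-finite. -/
theorem lqf_of_isFinite_kernel {k : Type u} [Field k] {G H : Over (Spec (CommRingCat.of k))}
    [GrpObj G] [GrpObj H] [LocallyOfFiniteType G.hom] [LocallyOfFiniteType H.hom] (f : G ⟶ H) [IsMonHom f]
    (h : ∀ (N : Over (Spec (CommRingCat.of k))) (i : N ⟶ G), AlgGrp.IsKernel i f → IsFinite N.hom) :
    LocallyQuasiFinite f.left := by
  have hk : AlgGrp.IsKernel (pullback.fst f η[H]) f := by
    have := IsPullback.of_hasPullback f η[H]
    rw [toUnit_unique (pullback.snd f η[H]) (toUnit _)] at this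
    exact this
  haveI := h _ _ hk
  haveI := Groth.Agent.GrpHom.lft_left f
  have sq : IsPullback (pullback.fst f η[H]).left (toUnit (pullback f η[H])).left f.left (η[H] : 𝟙_ _ ⟶ H).left :=
    hk.map (Over.forget _)
  let p := IsLocalRing.closedPoint k
  obtain ⟨z, hz, -⟩ := exists_preimage sq (η[G].left.base p) p (by
    rw [← Scheme.Hom.comp_apply, ← Over.comp_left, IsMonHom.one_hom])
  haveI : IsFinite (toUnit (pullback f η[H])).left := by
    rw [Over.toUnit_left]
    infer_instance
  have h0 := FibDimLib.fibreDimAt_baseChange sq z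
  rw [hz, (AlgSpLib.lqf_iff_fibreDimAt_eq_zero _).1 inferInstance z] at h0
  exact Groth.Agent.GrpHom.lqf_of_quasiFiniteAt f _
    (Scheme.Hom.quasiFiniteAt_iff_isOpen_singleton_asFiber.2 ((AlgSpLib.fibreDimAt_eq_zero_iff _ _).1 h0.symm))

section Model

variable (R K : Type u) [CommRing R] [IsDomain R] [Field K] [Algebra R K] [IsFractionRing R K]

/-- Every point of a flat scheme over a domain generizes to a point of the generic fibre. -/
theorem exists_generic {X : Scheme.{u}} (f : X ⟶ Spec (CommRingCat.of R)) [Flat f] (x : X) :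
    ∃ z : ↥(pullback f (Spec.map (CommRingCat.ofHom (algebraMap R K)))),
      (pullback.fst f (Spec.map (CommRingCat.ofHom (algebraMap R K)))).base z ⤳ x := by
  let η₀ : Spec (CommRingCat.of R) := (Spec.map (CommRingCat.ofHom (algebraMap R K))).base (IsLocalRing.closedPoint K)
  have hη : η₀ ⤳ f.base x := by
    rw [← PrimeSpectrum.le_iff_specializes]
    refine show Ideal.comap (algebraMap R K) _ ≤ _ from ?_
    rw [show (IsLocalRing.closedPoint K).asIdeal = (⊥ : Ideal K) from IsLocalRing.maximalIdeal_eq_bot,
      ← RingHom.ker_eq_comap_bot, (RingHom.injective_iff_ker_eq_bot _).1 (IsFractionRing.injective R K)]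
    exact bot_le
  obtain ⟨x', hx', hfx'⟩ := Flat.generalizingMap f hη
  obtain ⟨z, hz, -⟩ := exists_preimage (IsPullback.of_hasPullback f (Spec.map (CommRingCat.ofHom (algebraMap R K))))
    x' (IsLocalRing.closedPoint K) hfx'
  exact ⟨z, hz ▸ hx'⟩

/-- The relative dimension of a smooth model of an irreducible variety. -/
theorem exists_fibreDimAt_eq (N : Over (Spec (CommRingCat.of R))) [Smooth N.hom]
    [IrreducibleSpace ↥(pullback N.hom (Spec.map (CommRingCat.ofHom (algebraMap R K))))] :
    ∃ g : ℕ, (∀ x : N.left, FlatMor.fibreDimAt N.hom x = g) ∧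
      topologicalKrullDim ↥(pullback N.hom (Spec.map (CommRingCat.ofHom (algebraMap R K)))) = g := by
  let b := Spec.map (CommRingCat.ofHom (algebraMap R K))
  haveI : LocallyOfFiniteType (pullback.snd N.hom b) := inferInstance
  obtain ⟨z₀⟩ := (inferInstance : Nonempty ↥(pullback N.hom b))
  obtain ⟨g, hg⟩ := UOpenLib.exists_fibreDimAt_eq_nat (pullback.snd N.hom b) z₀
  have hdim : ∀ z, FlatMor.fibreDimAt (pullback.snd N.hom b) z = g := fun z => by
    rw [← hg, AlgSpLib.fibreDimAt_eq_localDim, AlgSpLib.fibreDimAt_eq_localDim,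
      FibDimLib.localDim_of_irreducible (pullback.snd N.hom b), FibDimLib.localDim_of_irreducible (pullback.snd N.hom b)]
  refine ⟨g, fun x => ?_, ?_⟩
  · obtain ⟨z, hz⟩ := exists_generic R K N.hom x
    obtain ⟨O, n, hxO, hO⟩ := AlgSpLib.exists_open_fibreDimAt_of_smooth N.hom x
    have h1 := hO _ (hz.mem_open O.isOpen hxO)
    rw [← FibDimLib.fibreDimAt_baseChange (IsPullback.of_hasPullback N.hom b) z, hdim z] at h1
    rw [hO x hxO, h1]
  · rw [← hdim z₀, AlgSpLib.fibreDimAt_eq_localDim, FibDimLib.localDim_of_irreducible (pullback.snd N.hom b)]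

end Model

end NeronQFLib
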