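import Groth.Agent.NeronQFLib.Flat
import Groth.Agent.DeligneKillLib.Affine
import Groth.Agent.SubDescLib.Main
import Groth.Agent.EtLocLib.Unram
import Mathlib.AlgebraicGeometry.Sites.Fpqc

/-!
# Kernels of isogenies are killed by the degree; factorisation of powers through isogenies
-/

set_option autoImplicit false
set_option backward.isDefEq.respectTransparency false

universe u

open CategoryTheory CategoryTheory.Limits AlgebraicGeometry MonoidalCategory CartesianMonoidalCategory
open scoped MonObj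

namespace NeronQFLib

/-- Points killed by a homomorphism factor through a kernel. -/
theorem exists_kernel_factor {S : Scheme.{u}} {X Y N : Over S} [GrpObj Y] (f : X ⟶ Y) (i : N ⟶ X)
    (hN : AlgGrp.IsKernel i f) {T : Over S} (x : T ⟶ X) (hx : x ≫ f = 1) : ∃ z : T ⟶ N, z ≫ i = x := by
  refine ⟨hN.lift x (toUnit T) ?_, hN.lift_fst _ _ _⟩
  rw [hx, Hom.one_def]

theorem kernel_comp {S : Scheme.{u}} {X Y N : Over S} [GrpObj Y] (f : X ⟶ Y) (i : N ⟶ X)
    (hN : AlgGrp.IsKernel i f) : i ≫ f = 1 := by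
  rw [Hom.one_def]; exact hN.w

theorem mono_of_kernel {S : Scheme.{u}} {X Y N : Over S} [GrpObj Y] (f : X ⟶ Y) (i : N ⟶ X)
    (hN : AlgGrp.IsKernel i f) : Mono i :=
  ⟨fun a b e => hN.hom_ext e (toUnit_unique _ _)⟩

/-- A finite kernel over a field is killed by its order. -/
theorem kernel_pow_finrank {k : Type u} [Field k] {X Y N : Over (Spec (CommRingCat.of k))} [GrpObj X] [GrpObj Y]
    [IsCommMonObj X] (f : X ⟶ Y) [IsMonHom f] (i : N ⟶ X) (hN : AlgGrp.IsKernel i f) [IsFinite N.hom] :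
    i ^ (N.hom.finrank (IsLocalRing.closedPoint k)) = 1 := by
  haveI := mono_of_kernel f i hN
  have hi := kernel_comp f i hN
  have hfac := fun {T : Over (Spec (CommRingCat.of k))} (x : T ⟶ X) (hx : x ≫ f = 1) => exists_kernel_factor f i hN x hx
  obtain ⟨G, hG⟩ := Groth.Agent.SubDesc.exists_grpObj_of_mono i
    (hfac _ (by rw [MonObj.mul_comp, Category.assoc, Category.assoc, hi, MonObj.comp_one, MonObj.comp_one,
      _root_.one_mul]))
    (hfac _ (MonObj.one_comp f))
    (hfac _ (by rw [GrpObj.inv_comp, hi, inv_one]))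
  letI : GrpObj N := G
  haveI := hG
  haveI : IsCommMonObj N := (isCommMonObj_iff_isMulCommutative N).2 fun T => ⟨⟨fun a b => by
    rw [← cancel_mono i, MonObj.mul_comp, MonObj.mul_comp, mul_comm]⟩⟩
  haveI : LocallyOfFinitePresentation N.hom := inferInstance
  have h := DeligneKillLib.id_pow_eq_one N _ (fun s => by rw [Subsingleton.elim s (IsLocalRing.closedPoint k)])
  have h' := congrArg (· ≫ i) h
  simp only [MonObj.pow_comp, Category.id_comp, MonObj.one_comp] at h'
  exact h'

/-- If the kernel of a flat surjective homomorphism is killed by `d`, multiplication by `d` factors through it. -/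
theorem exists_comp_eq_pow {S : Scheme.{u}} {X Y N : Over S} [GrpObj X] [GrpObj Y] [IsCommMonObj X]
    (f : X ⟶ Y) [IsMonHom f] [Flat f.left] [Surjective f.left] [QuasiCompact f.left]
    (i : N ⟶ X) (hN : AlgGrp.IsKernel i f) (d : ℕ) (hd : i ^ d = 1) :
    ∃ g : Y ⟶ X, f ≫ g = (𝟙 X) ^ d := by
  have key : ∀ {T : Over S} (a b : T ⟶ X), a ≫ f = b ≫ f → a ≫ (𝟙 X) ^ d = b ≫ (𝟙 X) ^ d := by
    intro T a b e
    obtain ⟨z, hz⟩ := exists_kernel_factor f i hN (a * b⁻¹)
      (by rw [MonObj.mul_comp, GrpObj.inv_comp, e, mul_inv_cancel])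
    have h1 : (a * b⁻¹) ^ d = 1 := by
      rw [← hz, ← MonObj.comp_pow, hd, MonObj.comp_one]
    rw [mul_pow, inv_pow, mul_inv_eq_one] at h1
    rw [MonObj.comp_pow, MonObj.comp_pow, Category.comp_id, Category.comp_id, h1]
  have hl : ∀ {Z : Scheme.{u}} (g₁ g₂ : Z ⟶ X.left), g₁ ≫ f.left = g₂ ≫ f.left →
      g₁ ≫ ((𝟙 X) ^ d).left = g₂ ≫ ((𝟙 X) ^ d).left := fun {Z} g₁ g₂ e => by
    let T : Over S := Over.mk (g₁ ≫ X.hom)
    let a : T ⟶ X := Over.homMk g₁ rfl
    let b : T ⟶ X := Over.homMk g₂ (by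
      show g₂ ≫ X.hom = g₁ ≫ X.hom
      rw [← Over.w f, reassoc_of% e])
    exact congrArg Over.Hom.left (key a b (Over.OverMorphism.ext e))
  refine ⟨Over.homMk (EffectiveEpi.desc f.left _ hl) ?_, Over.OverMorphism.ext (EffectiveEpi.fac f.left _ hl)⟩
  rw [← cancel_epi f.left, ← Category.assoc, EffectiveEpi.fac, Over.w, Over.w]

/-- A homomorphism with quasi-finite kernel is quasi-finite. -/
theorem lqf_of_lqf_kernel {S : Scheme.{u}} {X Y N : Over S} [GrpObj X] [GrpObj Y] [LocallyOfFiniteType X.hom]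
    [LocallyOfFiniteType Y.hom] (f : X ⟶ Y) [IsMonHom f] (i : N ⟶ X) (hN : AlgGrp.IsKernel i f)
    [LocallyOfFiniteType N.hom] [LocallyQuasiFinite N.hom] : LocallyQuasiFinite f.left := by
  haveI : LocallyOfFiniteType (f.left ≫ Y.hom) := by rw [Over.w]; infer_instance
  haveI : LocallyOfFiniteType f.left := locallyOfFiniteType_of_comp f.left Y.hom
  refine (AlgSpLib.lqf_iff_fibreDimAt_eq_zero _).2 fun x => ?_
  let b := S.fromSpecResidueField (X.hom.base x)
  let κ := S.residueField (X.hom.base x)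
  let P := Over.pullback b
  letI : GrpObj (P.obj X) := Functor.grpObjObj
  letI : GrpObj (P.obj Y) := Functor.grpObjObj
  haveI := AbSchLib.isMonHom_pullback_map b f
  haveI : LocallyOfFiniteType (P.obj X).hom := inferInstanceAs (LocallyOfFiniteType (pullback.snd X.hom b))
  haveI : LocallyOfFiniteType (P.obj Y).hom := inferInstanceAs (LocallyOfFiniteType (pullback.snd Y.hom b))
  have sqb := isPullback_map b f
  haveI : LocallyOfFiniteType (P.map f).left := MorphismProperty.of_isPullback sqb inferInstance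
  -- the unit at the base point
  have sqk : IsPullback i.left (toUnit N).left f.left (η[Y] : 𝟙_ _ ⟶ Y).left := hN.map (Over.forget _)
  let o : X.left := (η[X] : 𝟙_ _ ⟶ X).left.base (X.hom.base x)
  obtain ⟨z, hz, -⟩ := exists_preimage sqk o (X.hom.base x) (by
    rw [← Scheme.Hom.comp_apply, ← Over.comp_left, IsMonHom.one_hom] )
  haveI : LocallyOfFiniteType (toUnit N).left := by rw [Over.toUnit_left]; infer_instance
  haveI : LocallyQuasiFinite (toUnit N).left := by rw [Over.toUnit_left]; infer_instance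
  have h0 : FlatMor.fibreDimAt f.left o = 0 := by
    rw [← hz, ← FibDimLib.fibreDimAt_baseChange sqk z]
    exact (AlgSpLib.lqf_iff_fibreDimAt_eq_zero _).1 inferInstance z
  have hox : X.hom.base o = X.hom.base x := by
    rw [← Scheme.Hom.comp_apply, Over.w (η[X] : 𝟙_ _ ⟶ X)]; rfl
  obtain ⟨c, hc⟩ : o ∈ Set.range (pullback.fst X.hom b).base := by
    rw [Scheme.Pullback.range_fst, Scheme.range_fromSpecResidueField]; exact hox
  obtain ⟨c', hc'⟩ : x ∈ Set.range (pullback.fst X.hom b).base := by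
    rw [Scheme.Pullback.range_fst, Scheme.range_fromSpecResidueField]; rfl
  have hc0 : FlatMor.fibreDimAt (P.map f).left c = 0 := by
    rw [FibDimLib.fibreDimAt_baseChange sqb c]; rw [hc]; exact h0
  haveI : LocallyQuasiFinite (P.map f).left := Groth.Agent.GrpHom.lqf_of_quasiFiniteAt (k := κ) (P.map f) c
    (Scheme.Hom.quasiFiniteAt_iff_isOpen_singleton_asFiber.2 ((AlgSpLib.fibreDimAt_eq_zero_iff _ _).1 hc0))
  rw [← hc', ← FibDimLib.fibreDimAt_baseChange sqb c']
  exact (AlgSpLib.lqf_iff_fibreDimAt_eq_zero _).1 inferInstance c'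

end NeronQFLib
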