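import Groth.Agent.NeronQFLib.Basic
import Groth.Agent.AbSchLib.Flat

/-!
# Quasi-finite homomorphisms of smooth models are flat, and conversely
-/

set_option autoImplicit false
set_option backward.isDefEq.respectTransparency false

universe u

open CategoryTheory CategoryTheory.Limits AlgebraicGeometry MonoidalCategory CartesianMonoidalCategory
open scoped MonObj

namespace NeronQFLib

variable {S : Scheme.{u}} {X Y : Over S} [GrpObj X] [GrpObj Y] (f : X ⟶ Y) [IsMonHom f]
  [Smooth X.hom] [Smooth Y.hom]

/-- A quasi-finite homomorphism of smooth groups of the same constant relative dimension is flat. -/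
theorem flat_of_lqf [LocallyQuasiFinite f.left] {g : ℕ} (hX : ∀ x : X.left, FlatMor.fibreDimAt X.hom x = g)
    (hY : ∀ y : Y.left, FlatMor.fibreDimAt Y.hom y = g) : Flat f.left := by
  refine AbSchLib.flat_of_geometric_fibres f fun K _ _ ξ => ?_
  letI : GrpObj ((Over.pullback ξ).obj X) := Functor.grpObjObj
  letI : GrpObj ((Over.pullback ξ).obj Y) := Functor.grpObjObj
  haveI := AbSchLib.isMonHom_pullback_map ξ f
  haveI hXK : LocallyOfFiniteType ((Over.pullback ξ).obj X).hom :=
    inferInstanceAs (LocallyOfFiniteType (pullback.snd X.hom ξ))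
  haveI hYK : LocallyOfFiniteType ((Over.pullback ξ).obj Y).hom :=
    inferInstanceAs (LocallyOfFiniteType (pullback.snd Y.hom ξ))
  haveI : Smooth ((Over.pullback ξ).obj Y).hom := inferInstanceAs (Smooth (pullback.snd Y.hom ξ))
  haveI : AlgebraicGeometry.IsReduced ((Over.pullback ξ).obj Y).left :=
    AlgSpLib.isReduced_of_smooth ((Over.pullback ξ).obj Y).hom
  haveI : LocallyQuasiFinite ((Over.pullback ξ).map f).left :=
    MorphismProperty.of_isPullback (isPullback_map ξ f) ‹LocallyQuasiFinite f.left›
  have hdX : ∀ z : ↥((Over.pullback ξ).obj X).left, FlatMor.localDim ((Over.pullback ξ).obj X).left z = g := fun z => by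
    rw [← AlgSpLib.fibreDimAt_eq_localDim ((Over.pullback ξ).obj X).hom z]
    exact (FibDimLib.fibreDimAt_baseChange (IsPullback.of_hasPullback X.hom ξ) z).trans (hX _)
  have hdY : ∀ z : ↥((Over.pullback ξ).obj Y).left, FlatMor.localDim ((Over.pullback ξ).obj Y).left z = g := fun z => by
    rw [← AlgSpLib.fibreDimAt_eq_localDim ((Over.pullback ξ).obj Y).hom z]
    exact (FibDimLib.fibreDimAt_baseChange (IsPullback.of_hasPullback Y.hom ξ) z).trans (hY _)
  let e : ↥((Over.pullback ξ).obj X).left :=
    (η[(Over.pullback ξ).obj X]).left.base (IsLocalRing.closedPoint K)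
  obtain ⟨x, -, -, hd⟩ := FibDimLib.exists_generic_localDim ((Over.pullback ξ).obj X).hom e
  refine AbSchLib.flat_of_algClosed _ _ _ ⟨x, ?_⟩
  refine isMax_of_dim ((Over.pullback ξ).obj Y).hom _ (hdY _) ?_
  rw [← dim_closure_eq_of_lqf ((Over.pullback ξ).map f) x, ← hd, hdX]

omit [GrpObj X] [GrpObj Y] [IsMonHom f] in
/-- A flat morphism of smooth schemes of the same constant relative dimension is quasi-finite. -/
theorem lqf_of_flat [Flat f.left] {g : ℕ} (hX : ∀ x : X.left, FlatMor.fibreDimAt X.hom x = g)
    (hY : ∀ y : Y.left, FlatMor.fibreDimAt Y.hom y = g) : LocallyQuasiFinite f.left := by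
  haveI : LocallyOfFiniteType (f.left ≫ Y.hom) := by rw [Over.w]; infer_instance
  haveI : LocallyOfFiniteType f.left := locallyOfFiniteType_of_comp f.left Y.hom
  refine (AlgSpLib.lqf_iff_fibreDimAt_eq_zero f.left).2 fun x => ?_
  have h := FibDimLib.fibreDimAt_comp_of_flat f.left Y.hom x
  rw [Over.w f, hX, hY, add_comm] at h
  exact (FibDimLib.add_cancel_nat (n := g) (show (g : WithBot ℕ∞) + 0 = g + _ by rw [add_zero]; exact h)).symm

end NeronQFLib
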